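import Cfsg.Agent.H638.G2Iso
import Cfsg.Agent.H161.G2Emb
import Cfsg.Agent.H392.TD.Nat8
import Cfsg.Agent.H170.HL.OmRow
import Cfsg.Agent.LieClassical.QuadForms

/-!
# 8-dimensional orthogonal representations of `G₂(q)` and `³D₄(q)` (helper485, for helper165)

`v8_g2`, `v8_td4`: faithful homomorphisms `ρ` to `GL₈` with `ρ(g)ᵀ B ρ(g) = B`, `det B ≠ 0`.
-/

set_option autoImplicit false
set_option linter.unusedSectionVars false

namespace Cfsg.Agent.H485.RV

open Matrix Cfsg Cfsg.Lie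

section gen

variable {n : Type*} [Fintype n] [DecidableEq n] {K : Type*} [CommRing K]

theorem of_form (B g : Matrix n n K) (h : ∀ x y, (g *ᵥ x) ⬝ᵥ (B *ᵥ (g *ᵥ y)) = x ⬝ᵥ (B *ᵥ y)) : gᵀ * B * g = B := by
  have key : ∀ x y, x ⬝ᵥ ((gᵀ * B * g) *ᵥ y) = x ⬝ᵥ (B *ᵥ y) := by
    intro x y
    rw [← h, ← mulVec_mulVec, ← mulVec_mulVec, dotProduct_mulVec x gᵀ, vecMul_transpose]
  ext i j
  have h1 := key (Pi.single i 1) (Pi.single j 1)
  simpa using h1

end gen

section GTwo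

open Cfsg.Agent.H161.Oct Cfsg.Agent.H161

variable {K : Type*} [Field K]

/-- the Gram matrix of the norm form, over the integers -/
def BZ : Matrix (Fin 8) (Fin 8) ℤ := Matrix.of fun i j =>
  if (i, j) = (0, 7) ∨ (i, j) = (7, 0) then 1
  else if (i, j) ∈ [((1 : Fin 8), (4 : Fin 8)), (4, 1), (2, 5), (5, 2), (3, 6), (6, 3)] then -1 else 0

theorem BZ_sq : BZ * BZ = 1 := by decide +kernel

/-- the Gram matrix -/
def BK (K : Type*) [Field K] : Matrix (Fin 8) (Fin 8) K := BZ.map (Int.castRingHom K)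

theorem BK_sq : BK K * BK K = 1 := by
  rw [BK, ← Matrix.map_mul, BZ_sq, Matrix.map_one (Int.castRingHom K) (map_zero _) (map_one _)]

theorem BK_det : (BK K).det ≠ 0 := by
  intro h
  have h1 := congrArg Matrix.det (BK_sq (K := K))
  rw [det_mul, h, mul_zero, det_one] at h1
  exact zero_ne_one h1

theorem BK_form (x y : Fin 8 → K) : x ⬝ᵥ (BK K *ᵥ y) = bl x y := by
  simp only [dotProduct, mulVec, BK, Matrix.map_apply, BZ, Matrix.of_apply, Fin.sum_univ_eight, bl]
  simp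
  ring

theorem v8_g2 {F : Type*} [Field F] [Finite F] :
    ∃ (B : Matrix (Fin 8) (Fin 8) F) (ρ : ↥(chevG2.group F) →* Matrix.GeneralLinearGroup (Fin 8) F), B.det ≠ 0 ∧
      Function.Injective ρ ∧ ∀ g, (ρ g).1.transpose * B * (ρ g).1 = B := by
  obtain ⟨e⟩ := Cfsg.Agent.H638.G2Iso.equiv (F := F)
  refine ⟨BK F, (Cfsg.Lie.G2 F).subtype.comp e.symm.toMonoidHom, BK_det,
    Subtype.val_injective.comp e.symm.injective, fun g => ?_⟩
  apply of_form
  intro x y
  have hg : toE F (e.symm g : GL (Fin 8) F) ∈ AutO F := toE_mem.2 (e.symm g).2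
  have h1 : ∀ x, nm (toE F (e.symm g : GL (Fin 8) F) x) = nm x := fun x => map_nm hg x
  rw [BK_form, BK_form]
  have h2 := nm_add (toE F (e.symm g : GL (Fin 8) F) x) (toE F (e.symm g : GL (Fin 8) F) y)
  rw [← map_add, h1, h1, h1, nm_add] at h2
  have h3 : bl (toE F (e.symm g : GL (Fin 8) F) x) (toE F (e.symm g : GL (Fin 8) F) y) = bl x y := by
    linear_combination -h2
  exact h3

end GTwo

section TD

open Cfsg.Agent.LieClassical.QuadForms QuadraticMap Cfsg.Agent.H170.HL Cfsg.Agent.H170.HL.OmRow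

/-- the Gram matrix of the plus form -/
def BP (K : Type*) [Field K] : Matrix (Fin 4 ⊕ Fin 4) (Fin 4 ⊕ Fin 4) K := fromBlocks 0 1 1 0

theorem BP_form {K : Type*} [Field K] (x y : Fin 4 ⊕ Fin 4 → K) :
    x ⬝ᵥ (BP K *ᵥ y) = polarBilin (plusForm 4 K) x y := by
  rw [polarBilin_apply_apply, polar, plusForm_apply, plusForm_apply, plusForm_apply]
  have h1 : BP K *ᵥ y = Sum.elim (y ∘ Sum.inr) (y ∘ Sum.inl) := by
    rw [BP, fromBlocks_mulVec]
    simp
  rw [h1, dotProduct, Fintype.sum_sum_type]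
  simp only [Sum.elim_inl, Sum.elim_inr, Function.comp_apply, Pi.add_apply]
  rw [← Finset.sum_add_distrib, ← Finset.sum_sub_distrib, ← Finset.sum_sub_distrib]
  exact Finset.sum_congr rfl fun i _ => by ring

theorem BP_sq {K : Type*} [Field K] : BP K * BP K = 1 := by
  rw [BP, fromBlocks_multiply]
  simp

theorem v8_td4 {K : Type*} [Field K] [Fintype K] {q : ℕ} (hq : IsPrimePow q) (hK : Fintype.card K = q ^ 3) :
    ∃ (B : Matrix (Fin 8) (Fin 8) K) (ρ : ↥(twistedD4 K q) →* Matrix.GeneralLinearGroup (Fin 8) K), B.det ≠ 0 ∧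
      Function.Injective ρ ∧ ∀ g, (ρ g).1.transpose * B * (ρ g).1 = B := by
  obtain ⟨ψ, hψ⟩ := Cfsg.Agent.H392.TD.exists_nat hq hK
  let e : Matrix (Fin 4 ⊕ Fin 4) (Fin 4 ⊕ Fin 4) K ≃ₐ[K] Matrix (Fin 8) (Fin 8) K :=
    Matrix.reindexAlgEquiv K K (finSumFinEquiv : Fin 4 ⊕ Fin 4 ≃ Fin 8)
  have hform : ∀ g : isometryGroup K (quadFormPlus 4 K),
      (g : Matrix.GeneralLinearGroup (Fin 4 ⊕ Fin 4) K).1.transpose * BP K *
        (g : Matrix.GeneralLinearGroup (Fin 4 ⊕ Fin 4) K).1 = BP K := by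
    rw [← coe_plusForm]
    intro g
    apply of_form
    intro x y
    rw [BP_form, BP_form]
    exact polar_apply (plusForm 4 K) g x y
  refine ⟨e (BP K), (Units.map (e : Matrix (Fin 4 ⊕ Fin 4) (Fin 4 ⊕ Fin 4) K →* Matrix (Fin 8) (Fin 8) K)).comp
    ((isometryGroup K (quadFormPlus 4 K)).subtype.comp ψ), ?_, ?_, fun g => ?_⟩
  · intro h
    have h1 := congrArg Matrix.det (congrArg e (BP_sq (K := K)))
    rw [map_mul, det_mul, h, mul_zero, map_one, det_one] at h1
    exact zero_ne_one h1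
  · refine (Units.map_injective e.injective).comp (Subtype.val_injective.comp hψ)
  · have h1 := congrArg e (hform (ψ g))
    rw [map_mul, map_mul] at h1
    exact h1

end TD

end Cfsg.Agent.H485.RV
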