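import Cfsg.Agent.H485.RV.Fix
import Cfsg.Agent.H556.OmClaim
import Cfsg.Agent.H556.OddCoreE
import Cfsg.Agent.H340.RV.Closed

/-!
# The `N`-row for the orthogonal groups (TEAM RV, helper485)

* `exists_two_of_three`: `3'`-subgroups of odd index in `Omega` have a noncentral normal 2-subgroup: the blocks of a
maximal family of orthonormal 4-frames are permuted by `H` (helper556, helper170), so the elements of `H` which are
scalars `± 1` on the blocks and trivial on the complement form a normal 2-subgroup.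
* `traces_fixed`: helper340's theorem on characteristic polynomials for subgroups of `Omega`.
* `nAt_omega`, `nRow_omega`: the row for `POmega F Q`, dimension at least 7 (the case `O_r(H) ≠ 1` is helper556's).
* `nRow_oOdd`, `nRow_oPlus`, `nRow_oMinus`: the three families.
-/

set_option autoImplicit false
set_option linter.unusedSectionVars false

namespace Cfsg.Agent.H485.RV

section blk

open Module QuadraticMap Cfsg.Agent.H167.OP Cfsg.Agent.H170.HL Cfsg.Agent.H170.HL.OmRow Cfsg.Agent.H556.Om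

variable {F : Type} [Field F] {ι : Type} [Fintype ι] [DecidableEq ι] {Q : QuadraticForm F (ι → F)}
  {H : Subgroup (Cfsg.Omega F (⇑Q))} {m : ℕ} {E : Fin m × A4 → ι → F}

/-- the elements of `H` which are scalars on the blocks -/
def Sc (H : Subgroup (Cfsg.Omega F (⇑Q))) (E : Fin m × A4 → ι → F) : Subgroup (Cfsg.Omega F (⇑Q)) where
  carrier := {g | g ∈ H ∧ (∃ s : Fin m → F, (∀ k, s k * s k = 1) ∧ ∀ k, ∀ u ∈ Us E k, rep (inc (⇑Q)) g u = s k • u) ∧
    ∀ u ∈ Wc Q E, rep (inc (⇑Q)) g u = u}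
  one_mem' := ⟨H.one_mem, ⟨fun _ => 1, fun _ => one_mul 1, fun k u _ => by
    rw [map_one, one_smul, Module.End.one_apply]⟩, fun u _ => by rw [map_one, Module.End.one_apply]⟩
  mul_mem' := by
    rintro g h ⟨hg, ⟨s, hs, hgs⟩, hgW⟩ ⟨hh, ⟨t, ht, hht⟩, hhW⟩
    refine ⟨H.mul_mem hg hh, ⟨fun k => s k * t k, fun k => ?_, fun k u hu => ?_⟩, fun u hu => ?_⟩
    · rw [mul_mul_mul_comm, hs, ht, one_mul]
    · rw [map_mul, Module.End.mul_apply, hht k u hu, map_smul, hgs k u hu, smul_smul, mul_comm]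
    · rw [map_mul, Module.End.mul_apply, hhW u hu, hgW u hu]
  inv_mem' := by
    rintro g ⟨hg, ⟨s, hs, hgs⟩, hgW⟩
    have key : ∀ u, rep (inc (⇑Q)) g⁻¹ (rep (inc (⇑Q)) g u) = u := by
      intro u
      rw [← Module.End.mul_apply, ← map_mul, inv_mul_cancel, map_one, Module.End.one_apply]
    refine ⟨H.inv_mem hg, ⟨s, hs, fun k u hu => ?_⟩, fun u hu => ?_⟩
    · have h1 := key (s k • u)
      rw [map_smul, hgs k u hu, smul_smul, hs, one_smul] at h1
      exact h1
    · have h1 := key u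
      rwa [hgW u hu] at h1

theorem mem_Sc {g : Cfsg.Omega F (⇑Q)} : g ∈ Sc H E ↔
    g ∈ H ∧ (∃ s : Fin m → F, (∀ k, s k * s k = 1) ∧ ∀ k, ∀ u ∈ Us E k, rep (inc (⇑Q)) g u = s k • u) ∧
    ∀ u ∈ Wc Q E, rep (inc (⇑Q)) g u = u := Iff.rfl

theorem sc_isPGroup (h2 : (2 : F) ≠ 0) (hE : Frame (polarBilin Q) E) : IsPGroup 2 (Sc H E) := by
  rintro ⟨g, hg⟩
  refine ⟨1, ?_⟩
  apply Subtype.ext
  show g ^ 2 ^ 1 = 1
  rw [pow_one, pow_two]
  apply rep_inj (Q := Q)
  rw [map_one]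
  obtain ⟨s, hs, hgs⟩ := hg.2.1
  refine ext_frame hE h2 (fun j => ?_) fun w hw => ?_
  · obtain ⟨k, a⟩ := j
    rw [map_mul, Module.End.mul_apply, hgs k _ (mem_Us k a), map_smul, hgs k _ (mem_Us k a), smul_smul, hs, one_smul,
      Module.End.one_apply]
  · rw [map_mul, Module.End.mul_apply, hg.2.2 w hw, hg.2.2 w hw, Module.End.one_apply]

theorem inv_rep (g : Cfsg.Omega F (⇑Q)) (u : ι → F) : rep (inc (⇑Q)) g (rep (inc (⇑Q)) g⁻¹ u) = u := by
  rw [← Module.End.mul_apply, ← map_mul, mul_inv_cancel, map_one, Module.End.one_apply]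

theorem rep_inv (g : Cfsg.Omega F (⇑Q)) (u : ι → F) : rep (inc (⇑Q)) g⁻¹ (rep (inc (⇑Q)) g u) = u := by
  rw [← Module.End.mul_apply, ← map_mul, inv_mul_cancel, map_one, Module.End.one_apply]

theorem wc_inv {g : Cfsg.Omega F (⇑Q)} {τ : Equiv.Perm (Fin m)}
    (hg : ∀ k, (Us E k).map (rep (inc (⇑Q)) g) = Us E (τ k)) {u : ι → F} (hu : u ∈ Wc Q E) :
    rep (inc (⇑Q)) g⁻¹ u ∈ Wc Q E := by
  rintro ⟨k, a⟩
  have h1 : ∀ l, ∀ v ∈ Us E l, polarBilin Q v u = 0 := by
    intro l v hv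
    induction hv using Submodule.span_induction with
    | mem v hv =>
      obtain ⟨b, rfl⟩ := hv
      exact hu (l, b)
    | zero => rw [map_zero, LinearMap.zero_apply]
    | add v w _ _ h1 h2 => rw [map_add, LinearMap.add_apply, h1, h2, add_zero]
    | smul c v _ h1 => rw [map_smul, LinearMap.smul_apply, h1, smul_zero]
  rw [← polar_omega g, inv_rep]
  refine h1 (τ k) _ ?_
  rw [← hg k]
  exact ⟨_, mem_Us k a, rfl⟩

theorem us_inv {g : Cfsg.Omega F (⇑Q)} {τ : Equiv.Perm (Fin m)}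
    (hg : ∀ k, (Us E k).map (rep (inc (⇑Q)) g) = Us E (τ k)) {k : Fin m} {u : ι → F} (hu : u ∈ Us E k) :
    rep (inc (⇑Q)) g⁻¹ u ∈ Us E (τ.symm k) := by
  have h1 := hg (τ.symm k)
  rw [Equiv.apply_symm_apply] at h1
  rw [← h1] at hu
  obtain ⟨v, hv, rfl⟩ := hu
  rw [rep_inv]
  exact hv

/-- **A `3'`-subgroup of odd index has a noncentral normal 2-subgroup.** -/
theorem exists_two_of_three [Finite F] (h : HH Q H) (h7 : 7 ≤ Fintype.card ι) :
    ∃ N : Subgroup (Cfsg.Omega F (⇑Q)), N ≤ H ∧ IsPGroup 2 N ∧ (∀ g ∈ H, ∀ n ∈ N, g * n * g⁻¹ ∈ N) ∧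
      ∃ n ∈ N, n ∉ Subgroup.center (Cfsg.Omega F (⇑Q)) := by
  have hfin : Finite (Cfsg.Omega F (⇑Q)) := inferInstance
  obtain ⟨m, E₀, hE₀, hcard, hmax⟩ := exists_max (Q := Q) h.gq.nd h.two
  obtain ⟨E, hE, hR⟩ := h.exists_family hE₀
  have hm : 0 < m := by omega
  refine ⟨Sc H E, fun g hg => hg.1, sc_isPGroup h.two hE, ?_, ?_⟩
  · rintro g hg n ⟨hn, ⟨s, hs, hns⟩, hnW⟩
    obtain ⟨τ, hτ⟩ := h.exists_perm hE hmax hR hg
    rw [mem_NN] at hτ
    refine ⟨H.mul_mem (H.mul_mem hg hn) (H.inv_mem hg), ⟨fun k => s (τ.symm k), fun k => hs _, fun k u hu => ?_⟩,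
      fun u hu => ?_⟩
    · rw [map_mul, map_mul, Module.End.mul_apply, Module.End.mul_apply, hns _ _ (us_inv hτ hu), map_smul, inv_rep]
    · rw [map_mul, map_mul, Module.End.mul_apply, Module.End.mul_apply, hnW _ (wc_inv hτ hu), inv_rep]
  · -- `- 1` on the first block
    let k0 : Fin m := ⟨0, hm⟩
    have hF0 := Ek_frame hE k0
    have h01 : ((0, 0) : A4) ≠ (0, 1) := by decide
    have h23 : ((1, 0) : A4) ≠ (1, 1) := by decide
    obtain ⟨x, hx⟩ := exists_sg h.gq h.two hF0 h01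
    obtain ⟨y, hy⟩ := exists_sg h.gq h.two hF0 h23
    have hxR : x ∈ RG Q (Ek E k0) := Subgroup.subset_closure (Or.inr ⟨_, _, h01, hx⟩)
    have hyR : y ∈ RG Q (Ek E k0) := Subgroup.subset_closure (Or.inr ⟨_, _, h23, hy⟩)
    have hxy : rep (inc (⇑Q)) (x * y) = mono (polarBilin Q) (Ek E k0) (fun _ => -1) id := by
      rw [map_mul, hx, hy, mono_mul hF0 h.two]
      congr 1
      funext a
      have h8 : ∀ a : A4, (a = (1, 0) ∨ a = (1, 1)) ↔ ¬ (a = (0, 0) ∨ a = (0, 1)) := by decide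
      simp only [sg, id]
      by_cases h9 : a = (0, 0) ∨ a = (0, 1)
      · rw [if_neg (fun h => (h8 a).1 h h9), if_pos h9, one_mul]
      · rw [if_pos ((h8 a).2 h9), if_neg h9, mul_one]
    have horth : ∀ u, (∀ a, polarBilin Q (Ek E k0 a) u = 0) → rep (inc (⇑Q)) (x * y) u = u := by
      intro u hu
      rw [hxy, mono_orth hu]
    have hneg : ∀ u ∈ Us E k0, rep (inc (⇑Q)) (x * y) u = - u := by
      intro u hu
      induction hu using Submodule.span_induction with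
      | mem v hv =>
        obtain ⟨b, rfl⟩ := hv
        rw [hxy, mono_e hF0 h.two, neg_one_smul]
        rfl
      | zero => rw [map_zero, neg_zero]
      | add v w _ _ h1 h2 => rw [map_add, h1, h2, neg_add]
      | smul c v _ h1 => rw [map_smul, h1, smul_neg]
    refine ⟨x * y, ⟨hR k0 ((RG Q (Ek E k0)).mul_mem hxR hyR), ⟨fun k => if k = k0 then -1 else 1, fun k => ?_,
      fun k u hu => ?_⟩, fun u hu => horth u fun a => hu (k0, a)⟩, ?_⟩
    · dsimp only
      split_ifs <;> norm_num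
    · dsimp only
      split_ifs with hk
      · subst hk
        rw [hneg u hu, neg_one_smul]
      · rw [one_smul]
        exact horth u fun a => Us_orth hE (Ne.symm hk) (mem_Us k0 a) hu
    · intro hc
      have h4 := (Cfsg.Agent.LieClassical.OmegaCenter.mem_center_omega_iff Q h.gq.nd h.gq.card h.gq.sing _).mp hc
      have h4' : inc (⇑Q) (x * y) = 1 ∨ inc (⇑Q) (x * y) = -1 := h4
      have key : ∀ u : ι → F, u = -u → u = 0 := by
        intro u hu
        have h5 : (2 : F) • u = 0 := by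
          rw [two_smul]
          nth_rewrite 2 [hu]
          exact add_neg_cancel u
        exact (smul_eq_zero.1 h5).resolve_left h.two
      rcases h4' with h5 | h5
      · have h6 : rep (inc (⇑Q)) (x * y) (E (k0, (0, 0))) = E (k0, (0, 0)) := by
          rw [rep_apply, h5, Matrix.one_mulVec]
        rw [hneg _ (mem_Us k0 _)] at h6
        have h8 := hE.self (k0, (0, 0))
        rw [key _ h6.symm, map_zero] at h8
        exact h.two h8.symm
      · obtain ⟨w, hw, hw0⟩ := exists_next (Q := Q) h.gq.nd h.two (x := Ek E k0) (fun j => by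
          rw [hF0.self]; exact h.two) hF0.orth (by
            have : Fintype.card A4 = 4 := rfl
            omega)
        have h6 : rep (inc (⇑Q)) (x * y) w = - w := by
          rw [rep_apply, h5, Matrix.neg_mulVec, Matrix.one_mulVec]
        rw [horth w hw] at h6
        apply hw0
        rw [key _ h6, map_zero]

end blk

section rows

open Module QuadraticMap Cfsg.Agent.H167.OP Cfsg.Agent.H170.HL Cfsg.Agent.H170.HL.OmRow Cfsg.Agent.H556.Om
open Cfsg.Agent.AutOrth Cfsg.Agent.AutOrth.Main Cfsg.Agent.LieClassical.OrthTrans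
open Cfsg

universe u

variable {F : Type} [Field F] {ι : Type} [Fintype ι] [DecidableEq ι] {Q : QuadraticForm F (ι → F)}

/-- a noncentral normal 2-subgroup -/
def NTwo (H : Subgroup (Cfsg.Omega F (⇑Q))) : Prop :=
  ∃ N : Subgroup (Cfsg.Omega F (⇑Q)), N ≤ H ∧ IsPGroup 2 N ∧ (∀ g ∈ H, ∀ n ∈ N, g * n * g⁻¹ ∈ N) ∧
    ∃ n ∈ N, n ∉ Subgroup.center (Cfsg.Omega F (⇑Q))

/-! ### traces -/

/-- the homomorphism to linear automorphisms -/
noncomputable def ro (Q : QuadraticForm F (ι → F)) : Cfsg.Omega F (⇑Q) →* ((ι → F) ≃ₗ[F] (ι → F)) :=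
  (Cfsg.Agent.LieClassical.OrthFinite.isometryHom Q).comp (Cfsg.Omega F (⇑Q)).subtype

theorem ro_injective : Function.Injective (ro Q) :=
  (Cfsg.Agent.LieClassical.OrthFinite.isometryHom_injective Q).comp Subtype.val_injective

/-- isometries of odd order lie in `Omega` -/
theorem exists_ro (hQ : GoodQ Q) (h2 : (2 : F) ≠ 0) {y : (ι → F) ≃ₗ[F] (ι → F)}
    (hy : ∀ u v, polarBilin Q (y u) (y v) = polarBilin Q u v) {t : ℕ} (ht : Odd t) (hyt : y ^ t = 1) :
    ∃ g : Cfsg.Omega F (⇑Q), ro Q g = y := by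
  have h1 : ∀ v, Q (y v) = Q v := by
    intro v
    have h3 := hy v v
    rw [two_Q, two_Q] at h3
    exact mul_left_cancel₀ h2 h3
  obtain ⟨g, hg⟩ := (Cfsg.Agent.LieClassical.OrthFinite.isometryEquiv Q).surjective ⟨y, h1⟩
  have hg' : Cfsg.Agent.LieClassical.OrthFinite.isometryHom Q g = y := congrArg Subtype.val hg
  have h3 : g ^ t = 1 := by
    apply Cfsg.Agent.LieClassical.OrthFinite.isometryHom_injective Q
    rw [map_pow, hg', hyt, map_one]
  exact ⟨⟨g, mem_omega_of_odd hQ ht h3⟩, hg'⟩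

theorem exists_three [Finite F] (hQ : GoodQ Q) (h2 : (2 : F) ≠ 0) (h7 : 7 ≤ Fintype.card ι) :
    ∃ y : Cfsg.Omega F (⇑Q), orderOf y = 3 := by
  have hF0 : Frame (polarBilin Q) (fun i : Empty => (i.elim : ι → F)) := ⟨fun i => i.elim, fun i => i.elim⟩
  obtain ⟨e, hF, -⟩ := exists_frames hQ.nd h2 hF0 (Fintype.card ι - 1) (by
    rw [Fintype.card_eq_zero]; omega)
  let a : Fin (Fintype.card ι - 1) := ⟨0, by omega⟩
  let b : Fin (Fintype.card ι - 1) := ⟨1, by omega⟩
  let c : Fin (Fintype.card ι - 1) := ⟨2, by omega⟩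
  have hab : a ≠ b := fun h => absurd (congrArg Fin.val h) (by simp [a, b])
  have hac : a ≠ c := fun h => absurd (congrArg Fin.val h) (by simp [a, c])
  have hbc : b ≠ c := fun h => absurd (congrArg Fin.val h) (by simp [b, c])
  have h3 := Equiv.Perm.isThreeCycle_swap_mul_swap_same hab hac hbc
  set σ := Equiv.swap a b * Equiv.swap a c with hσ
  have hσ3 : σ ^ 3 = 1 := by rw [← h3.orderOf, pow_orderOf_eq_one]
  obtain ⟨g, hg⟩ := exists_perm hQ h2 hF h3.sign
  have := Fact.mk Nat.prime_three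
  refine ⟨g, orderOf_eq_prime ?_ ?_⟩
  · apply rep_inj (Q := Q)
    rw [pow_succ, pow_two, map_mul, map_mul, hg, mono_mul hF h2, mono_mul hF h2, map_one]
    refine mono_one hF h2 (fun j => by simp) fun j => ?_
    have h4 := congrArg (fun τ : Equiv.Perm _ => τ j) hσ3
    exact h4
  · intro h0
    rw [h0, map_one] at hg
    have hne : σ ≠ 1 := by
      intro h
      have := h3.orderOf
      rw [h, orderOf_one] at this
      omega
    obtain ⟨j, hj⟩ : ∃ j, σ j ≠ j := by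
      by_contra hcon
      push Not at hcon
      exact hne (Equiv.ext hcon)
    have h4 := congrArg (fun T : Module.End F (ι → F) => T (e j)) hg
    simp only [Module.End.one_apply, mono_e hF h2, one_smul] at h4
    have h5 := hF.orth _ _ hj
    rw [← h4, hF.self] at h5
    exact h2 h5

/-- helper340's theorem for subgroups of `Omega` -/
theorem traces_fixed [Finite F] (hQ : GoodQ Q) (h2 : (2 : F) ≠ 0) (h7 : 7 ≤ Fintype.card ι) {p : ℕ} [CharP F p]
    (hp : p.Prime) {H : Subgroup (Cfsg.Omega F (⇑Q))} (hcard : (Nat.card H : F) ≠ 0)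
    (hall : ∀ r : ℕ, r.Prime → r ≠ 2 → (r = 3 ∨ r ∣ Nat.card H) → ∀ (y : Cfsg.Omega F (⇑Q)) (n : ℕ), y ^ r ^ n = 1 →
      ∃ c : Cfsg.Omega F (⇑Q), c * y * c⁻¹ ∈ H)
    (hr : ∀ r : ℕ, r.Prime → r ≠ 2 → Cfsg.pCore r H = ⊥) (σ : F ≃+* F) (hσ : Odd (orderOf σ)) (h : Cfsg.Omega F (⇑Q))
    (hh : h ∈ H) :
    σ (LinearMap.trace F (ι → F) (rep (inc (⇑Q)) h)) = LinearMap.trace F (ι → F) (rep (inc (⇑Q)) h) := by
  have hfin : Finite (Cfsg.Omega F (⇑Q)) := inferInstance
  have := Fact.mk hp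
  have S : H340.RV.Sit p (polarBilin Q) ((ro Q).comp H.subtype) :=
    { two := h2
      symm := fun u v => polar_symm u v
      nondeg := fun v hv => hQ.nd.1 v hv
      dim := by rw [Module.finrank_fintype_fun_eq_card]; omega
      inj := ro_injective.comp Subtype.val_injective
      iso := fun h u v => polar_omega (h : Cfsg.Omega F (⇑Q)) u v
      cop := fun hd => hcard ((CharP.cast_eq_zero_iff F p _).2 hd)
      three := by
        obtain ⟨y, hy⟩ := exists_three hQ h2 h7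
        obtain ⟨c, hc⟩ := hall 3 Nat.prime_three (by norm_num) (Or.inl rfl) y 1 (by
          rw [pow_one, ← hy, pow_orderOf_eq_one])
        have h3 : orderOf (⟨c * y * c⁻¹, hc⟩ : H) = 3 := by
          rw [Subgroup.orderOf_mk, ← hy]
          exact (MulEquiv.orderOf_eq (MulAut.conj c) y)
        rw [← h3]
        exact orderOf_dvd_natCard _
      hall := by
        rintro r hr0 hr2 hr3 y hy ⟨n, hyn⟩
        obtain ⟨g, rfl⟩ := exists_ro hQ h2 hy ((hr0.odd_of_ne_two hr2).pow (n := n)) hyn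
        have hgn : g ^ r ^ n = 1 := ro_injective (by rw [map_pow, hyn, map_one])
        obtain ⟨c, hc⟩ := hall r hr0 hr2 (Or.inr hr3) g n hgn
        refine ⟨ro Q c, ⟨_, hc⟩, ?_⟩
        show ro Q (c * g * c⁻¹) = _
        rw [map_mul, map_mul, map_inv]
      core := hr }
  exact S.trace_map σ hσ ⟨h, hh⟩

section frame

variable {J : Type*} [Fintype J] [DecidableEq J] {e : J → ι → F}

/-- the diagonal 2-group of a frame -/
def DG (h2 : (2 : F) ≠ 0) (hF : Frame (polarBilin Q) e) : Subgroup (Cfsg.Omega F (⇑Q)) where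
  carrier := {x | ∃ s : J → F, (∀ j, s j * s j = 1) ∧ rep (inc (⇑Q)) x = mono (polarBilin Q) e s id}
  one_mem' := ⟨fun _ => 1, fun _ => one_mul 1, by
    rw [map_one]
    exact (mono_one hF h2 (fun _ => rfl) fun j => rfl).symm⟩
  mul_mem' := by
    rintro x y ⟨s, hs, hx⟩ ⟨t, ht, hy⟩
    refine ⟨fun j => t j * s j, fun j => ?_, ?_⟩
    · rw [mul_mul_mul_comm, hs, ht, one_mul]
    · rw [map_mul, hx, hy, mono_mul hF h2]
      rfl
  inv_mem' := by
    rintro x ⟨s, hs, hx⟩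
    refine ⟨s, hs, ?_⟩
    have h3 : mono (polarBilin Q) e s id * rep (inc (⇑Q)) x = 1 := by
      rw [hx, mono_mul hF h2]
      exact mono_one hF h2 (fun j => hs j) fun j => rfl
    have h4 : rep (inc (⇑Q)) x * rep (inc (⇑Q)) x⁻¹ = 1 := by rw [← map_mul, mul_inv_cancel, map_one]
    calc rep (inc (⇑Q)) x⁻¹ = (mono (polarBilin Q) e s id * rep (inc (⇑Q)) x) * rep (inc (⇑Q)) x⁻¹ := by
          rw [h3, one_mul]
      _ = _ := by rw [mul_assoc, h4, mul_one]

theorem DG_isPGroup (h2 : (2 : F) ≠ 0) (hF : Frame (polarBilin Q) e) : IsPGroup 2 (DG h2 hF) := by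
  rintro ⟨x, s, hs, hx⟩
  refine ⟨1, Subtype.ext ?_⟩
  show x ^ 2 ^ 1 = 1
  rw [pow_one, pow_two]
  apply rep_inj
  rw [map_mul, hx, mono_mul hF h2, map_one]
  exact mono_one hF h2 (fun j => hs j) fun j => rfl

theorem sg_mem_DG (h2 : (2 : F) ≠ 0) (hF : Frame (polarBilin Q) e) {j k : J} {x : Cfsg.Omega F (⇑Q)}
    (hx : rep (inc (⇑Q)) x = mono (polarBilin Q) e (H556.Om.sg F j k) id) : x ∈ DG h2 hF :=
  ⟨_, fun i => by
    simp only [H556.Om.sg]
    split_ifs <;> norm_num, hx⟩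

end frame

theorem exists_conj_r {G : Type*} [Group G] [Finite G] {K : Subgroup G} {r : ℕ} (hr : r.Prime) (hK : ¬ r ∣ K.index)
    {x : G} {n : ℕ} (hx : x ^ r ^ n = 1) : ∃ c : G, c * x * c⁻¹ ∈ K := by
  have := Fact.mk hr
  have h1 : IsPGroup r (Subgroup.zpowers x) := by
    rintro ⟨y, hy⟩
    obtain ⟨k, rfl⟩ := hy
    refine ⟨n, ?_⟩
    apply Subtype.ext
    rw [Subgroup.coe_pow, Subgroup.coe_one]
    show (x ^ k) ^ r ^ n = 1
    rw [← zpow_natCast, ← zpow_mul, mul_comm, zpow_mul, zpow_natCast, hx, one_zpow]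
  have h2 : ¬ r ∣ Nat.card (G ⧸ K) := hK
  obtain ⟨a, ha⟩ := h1.nonempty_fixed_point_of_prime_not_dvd_card (G ⧸ K) h2
  obtain ⟨c, rfl⟩ := QuotientGroup.mk_surjective a
  refine ⟨c⁻¹, ?_⟩
  have h3 := ha ⟨x, Subgroup.mem_zpowers x⟩
  have h4 : (QuotientGroup.mk (x * c) : G ⧸ K) = QuotientGroup.mk c := h3
  rw [QuotientGroup.eq] at h4
  have h5 := K.inv_mem h4
  simpa [mul_assoc] using h5

section row

variable [Finite F] {S : Type u} [Group S] [Finite S]

/-- the projection -/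
def pr (e : S ≃* Cfsg.POmega F (⇑Q)) : Cfsg.Omega F (⇑Q) →* S :=
  (e.symm : Cfsg.POmega F (⇑Q) →* S).comp (QuotientGroup.mk' (Subgroup.center (Cfsg.Omega F (⇑Q))))

theorem pr_surjective (e : S ≃* Cfsg.POmega F (⇑Q)) : Function.Surjective (pr e) :=
  e.symm.surjective.comp (QuotientGroup.mk'_surjective _)

theorem pr_apply (e : S ≃* Cfsg.POmega F (⇑Q)) (g : Cfsg.Omega F (⇑Q)) : e (pr e g) = QuotientGroup.mk g :=
  e.apply_symm_apply _

theorem pr_eq_one (e : S ≃* Cfsg.POmega F (⇑Q)) {g : Cfsg.Omega F (⇑Q)} :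
    pr e g = 1 ↔ g ∈ Subgroup.center (Cfsg.Omega F (⇑Q)) := by
  rw [← QuotientGroup.eq_one_iff, ← pr_apply e]
  constructor
  · intro h; rw [h, map_one]
  · intro h; exact e.injective (h.trans (map_one e).symm)

theorem mul_self_of_pr (hQ : GoodQ Q) (e : S ≃* Cfsg.POmega F (⇑Q)) {k : Cfsg.Omega F (⇑Q)} (h : pr e k = 1) :
    k * k = 1 := by
  have h1 := (Cfsg.Agent.LieClassical.OmegaCenter.mem_center_omega_iff Q hQ.nd hQ.card hQ.sing k).mp
    ((pr_eq_one e).1 h)
  apply inc_injective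
  rw [map_mul, map_one]
  have h1' : inc (⇑Q) k = 1 ∨ inc (⇑Q) k = -1 := h1
  rcases h1' with h | h
  · rw [h, one_mul]
  · rw [h, neg_mul_neg, one_mul]

variable {π : Set ℕ}

theorem hall_comap (hQ : GoodQ Q) (e : S ≃* Cfsg.POmega F (⇑Q)) (h2π : 2 ∈ π) {H : Subgroup S} (hH : IsPiHall π H) :
    IsPiHall π (H.comap (pr e)) := by
  have hfin : Finite (Cfsg.Omega F (⇑Q)) := inferInstance
  constructor
  · intro r hr hd
    have := Fact.mk hr
    obtain ⟨x, hx⟩ := exists_prime_orderOf_dvd_card' (G := H.comap (pr e)) r hd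
    by_cases h1 : pr e (x : Cfsg.Omega F (⇑Q)) = 1
    · have h3 : x * x = 1 := Subtype.ext (mul_self_of_pr hQ e h1)
      have h4 : r ∣ 2 := by
        rw [← hx]
        exact orderOf_dvd_of_pow_eq_one (by rw [pow_two]; exact h3)
      rw [(Nat.prime_dvd_prime_iff_eq hr Nat.prime_two).mp h4]
      exact h2π
    · apply hH.1 r hr
      let z : H := ⟨pr e x, x.2⟩
      have h3 : z ^ r = 1 := by
        apply Subtype.ext
        show (pr e x) ^ r = 1
        rw [← map_pow]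
        have : x ^ r = 1 := by rw [← hx, pow_orderOf_eq_one]
        have h4 : (x : Cfsg.Omega F (⇑Q)) ^ r = 1 := congrArg Subtype.val this
        rw [h4, map_one]
      have h4 : orderOf z = r := orderOf_eq_prime h3 fun h => h1 (congrArg Subtype.val h)
      rw [← h4]
      exact orderOf_dvd_natCard z
  · intro r hr hrπ hd
    rw [Subgroup.index_comap_of_surjective H (pr_surjective e)] at hd
    exact hH.2 r hr hrπ hd

theorem nAt_of_NTwo (e : S ≃* Cfsg.POmega F (⇑Q)) {H : Subgroup S} (h : NTwo (H.comap (pr e))) : H165.RV.NAt H := by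
  obtain ⟨N, hN, h2, hn, n, hnN, hnc⟩ := h
  refine H165.RV.NAt.of_isPGroup (N := N.map (pr e)) ?_ ?_ (h2.map _) ?_
  · intro h0
    have h1 : pr e n ∈ N.map (pr e) := ⟨n, hnN, rfl⟩
    rw [h0, Subgroup.mem_bot, pr_eq_one] at h1
    exact hnc h1
  · rintro _ ⟨x, hx, rfl⟩
    exact hN hx
  · rintro h hh _ ⟨x, hx, rfl⟩
    obtain ⟨g, rfl⟩ := pr_surjective e h
    exact ⟨g * x * g⁻¹, hn g hh x hx, by rw [map_mul, map_mul, map_inv]⟩

theorem norm_map_pCore {G : Type*} {S : Type*} [Group G] [Group S] (f : G →* S) (hf : Function.Surjective f)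
    (H : Subgroup S) (r : ℕ) : ∀ h ∈ H, ∀ b ∈ (Cfsg.pCore r (H.comap f)).map (f.comp (H.comap f).subtype),
      h * b * h⁻¹ ∈ (Cfsg.pCore r (H.comap f)).map (f.comp (H.comap f).subtype) := by
  rintro h hh _ ⟨x, hx, rfl⟩
  obtain ⟨g, rfl⟩ := hf h
  have hn : (Cfsg.pCore r (H.comap f)).Normal := inferInstance
  refine ⟨⟨g, hh⟩ * x * ⟨g, hh⟩⁻¹, hn.conj_mem x hx ⟨g, hh⟩, ?_⟩
  simp

/-- **The `N`-row for `POmega`.** -/
theorem nAt_omega (hG : Good Q) (hQ : GoodQ Q) {p : ℕ} [CharP F p] (hp : p.Prime)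
    (hpπ : p ∉ π) (h2π : 2 ∈ π) (h7 : 7 ≤ Fintype.card ι) (e : S ≃* Cfsg.POmega F (⇑Q)) {H : Subgroup S}
    (hH : IsPiHall π H) : H165.RV.NAt H := by
  have hfin : Finite (Cfsg.Omega F (⇑Q)) := inferInstance
  have h2 : (2 : F) ≠ 0 := by
    intro h
    have h1 : ((2 : ℕ) : F) = 0 := by exact_mod_cast h
    rw [CharP.cast_eq_zero_iff F p, Nat.prime_dvd_prime_iff_eq hp Nat.prime_two] at h1
    exact hpπ (h1 ▸ h2π)
  have hK := hall_comap hQ e h2π hH
  have hidx : ¬ 2 ∣ (H.comap (pr e)).index := hK.2 2 Nat.prime_two h2π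
  have hcard : (Nat.card (H.comap (pr e)) : F) ≠ 0 := by
    intro h0
    rw [CharP.cast_eq_zero_iff F p] at h0
    exact hpπ (hK.1 p hp h0)
  by_cases h3π : 3 ∈ π
  swap
  · have hHH : HH Q (H.comap (pr e)) :=
      { gq := hQ
        two := h2
        claim := claimAll F ι Q h2 hQ
        idx := hidx
        three := fun hd => h3π (hK.1 3 Nat.prime_three hd)
        card := hcard }
    exact nAt_of_NTwo e (exists_two_of_three hHH h7)
  by_cases hr : ∀ r : ℕ, r.Prime → r ≠ 2 → Cfsg.pCore r (H.comap (pr e)) = ⊥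
  swap
  · push Not at hr
    obtain ⟨r, hr, hr2, hR0⟩ := hr
    have := Fact.mk hr
    have hRr : IsPGroup r (Cfsg.pCore r (H.comap (pr e))) := Cfsg.Agent.OddOrderLocal.PLengthOne.isPGroup_pCore r
    have hnm : (Cfsg.pCore r (H.comap (pr e))).Normal := inferInstance
    refine H556.OddCore.nAt_of_odd hp h2 hQ (by omega) rfl e (H := H) (hH.2 2 Nat.prime_two h2π)
      (fun hd => hpπ (hH.1 p hp hd)) hr hr2
      (B := (Cfsg.pCore r (H.comap (pr e))).map ((pr e).comp (H.comap (pr e)).subtype)) ?_ ?_ (hRr.map _) ?_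
    · rintro _ ⟨x, -, rfl⟩
      exact x.2
    · intro h0
      apply hR0
      rw [eq_bot_iff]
      intro x hx
      have h3 : pr e x ∈ (Cfsg.pCore r (H.comap (pr e))).map ((pr e).comp (H.comap (pr e)).subtype) := ⟨x, hx, rfl⟩
      rw [h0, Subgroup.mem_bot] at h3
      have h4 : x * x = 1 := Subtype.ext (mul_self_of_pr hQ e h3)
      obtain ⟨k, hk⟩ := hRr ⟨x, hx⟩
      have hk' : x ^ r ^ k = 1 := congrArg Subtype.val hk
      rw [Subgroup.mem_bot, ← orderOf_eq_one_iff]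
      have h5 : orderOf x ∣ 2 := orderOf_dvd_of_pow_eq_one (by rw [pow_two]; exact h4)
      have h6 : orderOf x ∣ r ^ k := orderOf_dvd_of_pow_eq_one hk'
      have h8 : Nat.Coprime 2 (r ^ k) := Nat.Coprime.pow_right _ ((Nat.coprime_primes Nat.prime_two hr).2 (Ne.symm hr2))
      exact Nat.eq_one_of_dvd_coprimes h8 h5 h6
    · exact norm_map_pCore (pr e) (pr_surjective e) H r
  have htr := traces_fixed hQ h2 h7 hp hcard ?_ hr
  swap
  · intro r hr hr2 hr3 y n hy
    have hrπ : r ∈ π := by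
      rcases hr3 with rfl | hd
      · exact h3π
      · exact hK.1 r hr hd
    exact exists_conj_r hr (hK.2 r hr hrπ) hy
  intro P hP φ hφ hfix
  -- the frame
  have hn : 7 ≤ Fintype.card ι := h7
  have hF0 : Frame (polarBilin Q) (fun i : Empty => (i.elim : ι → F)) := ⟨fun i => i.elim, fun i => i.elim⟩
  obtain ⟨e₀, hF₀, -⟩ := exists_frames hQ.nd h2 hF0 (Fintype.card ι - 1) (by
    rw [Fintype.card_eq_zero]; omega)
  obtain ⟨w₀, hw₀, hw₀0⟩ := exists_next hQ.nd h2 (x := e₀) (fun j => by rw [hF₀.self]; exact h2) hF₀.orth (by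
    rw [Fintype.card_fin]; omega)
  have : Fact (Nat.Prime 2) := ⟨Nat.prime_two⟩
  obtain ⟨c, hc⟩ := exists_conj (H := (P : Subgroup S)) P.not_dvd_index ((DG_isPGroup h2 hF₀).map (pr e))
  obtain ⟨g₀, rfl⟩ := pr_surjective e c
  have hF : Frame (polarBilin Q) (fun j => rep (inc (⇑Q)) g₀ (e₀ j)) := hF₀.map (polar_omega g₀)
  have hw : ∀ j, polarBilin Q (rep (inc (⇑Q)) g₀ (e₀ j)) (rep (inc (⇑Q)) g₀ w₀) = 0 := fun j => by
    rw [polar_omega, hw₀]
  have hw0 : polarBilin Q (rep (inc (⇑Q)) g₀ w₀) (rep (inc (⇑Q)) g₀ w₀) ≠ 0 := by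
    rw [polar_omega]; exact hw₀0
  have hcJ : Fintype.card (Fin (Fintype.card ι - 1)) + 1 = Fintype.card ι := by
    rw [Fintype.card_fin]; omega
  have hPg : ∀ j k, j ≠ k → ∀ g : Cfsg.Omega F (⇑Q),
      rep (inc (⇑Q)) g = mono (polarBilin Q) (fun j => rep (inc (⇑Q)) g₀ (e₀ j)) (H556.Om.sg F j k) id →
      pr e g ∈ P := by
    intro j k hjk g hg
    have h3 := sg_mem_DG h2 hF₀ (conj_mono hg)
    have h4 := hc _ ⟨_, h3, rfl⟩
    have h5 : pr e g₀ * pr e (g₀⁻¹ * g * g₀) * (pr e g₀)⁻¹ = pr e g := by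
      rw [← map_inv, ← map_mul, ← map_mul]
      congr 1
      group
    rw [h5] at h4
    exact h4
  let α : MulAut (Cfsg.POmega F (⇑Q)) := MulAut.congr e φ
  have hα : ∀ g, α (QuotientGroup.mk g) = e (φ (pr e g)) := fun g => by
    show e (φ (e.symm _)) = _
    rw [← pr_apply e, MulEquiv.symm_apply_apply]
  have hαo : Odd (orderOf α) := by
    have : orderOf α = orderOf φ := MulEquiv.orderOf_eq (MulAut.congr e) φ
    rwa [this]
  have hαfix : ∀ j k, j ≠ k → ∀ g : Cfsg.Omega F (⇑Q),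
      rep (inc (⇑Q)) g = mono (polarBilin Q) (fun j => rep (inc (⇑Q)) g₀ (e₀ j)) (H556.Om.sg F j k) id →
      α (QuotientGroup.mk g) = QuotientGroup.mk g := by
    intro j k hjk g hg
    rw [hα, hfix _ (hPg j k hjk g hg), pr_apply]
  have hI : Ind (⇑Q) α := ind_of_frame hG hQ h7 h2 hF hw hw0 hcJ hαfix
  have key : ∀ h ∈ H, φ h = h := by
    intro h hh
    obtain ⟨g, rfl⟩ := pr_surjective e h
    have h3 := fix_of_frame hG hQ h2 hF hw hw0 hcJ (by rw [Fintype.card_fin]; omega) (H := H.comap (pr e))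
      (fun j k hjk g hg => hP (hPg j k hjk g hg)) htr hαo hI hαfix (h := g) hh
    rw [hα, ← pr_apply e] at h3
    exact e.injective h3
  have hHne : H ≠ ⊥ := by
    intro h0
    have h3 : (P : Subgroup S) = ⊥ := by
      rw [eq_bot_iff]
      exact hP.trans h0.le
    have hjk : (⟨0, by omega⟩ : Fin (Fintype.card ι - 1)) ≠ ⟨1, by omega⟩ := by
      intro h; exact absurd (congrArg Fin.val h) (by norm_num)
    obtain ⟨g, hg⟩ := exists_sg hQ h2 hF hjk
    have h5 := hPg _ _ hjk g hg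
    have h6 : pr e g = 1 := by
      have h7 : pr e g ∈ (P : Subgroup S) := h5
      rwa [h3, Subgroup.mem_bot] at h7
    have hsg := isSg_of h2 hF hw hg
    have h8 := (Cfsg.Agent.LieClassical.OmegaCenter.mem_center_omega_iff Q hQ.nd hQ.card hQ.sing _).mp
      ((pr_eq_one e).1 h6)
    have h8' : inc (⇑Q) g = 1 ∨ inc (⇑Q) g = -1 := h8
    have key2 : ∀ u : ι → F, u = -u → u = 0 := by
      intro u hu
      have h5 : (2 : F) • u = 0 := by
        rw [two_smul]
        nth_rewrite 2 [hu]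
        exact add_neg_cancel u
      exact (smul_eq_zero.1 h5).resolve_left h2
    have hne : ∀ j, rep (inc (⇑Q)) g₀ (e₀ j) ≠ 0 := by
      intro j h0
      have h9 := hF.self j
      simp only [h0, map_zero] at h9
      exact h2 h9.symm
    rcases h8' with h9 | h9
    · have h10 := hsg (some ⟨0, by omega⟩)
      rw [if_pos (Or.inl rfl), rep_apply, h9, Matrix.one_mulVec] at h10
      exact hne _ (key2 _ h10)
    · have h10 := hsg (some ⟨2, by omega⟩)
      rw [if_neg (by simp), rep_apply, h9, Matrix.neg_mulVec, Matrix.one_mulVec] at h10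
      exact hne _ (key2 _ h10.symm)
  refine ⟨H, hHne, le_rfl, fun h hh n hn => H.mul_mem (H.mul_mem hh hn) (H.inv_mem hh), ?_⟩
  ext x
  constructor
  · rintro ⟨y, hy, rfl⟩
    have : (φ : S ≃* S).toMonoidHom y = y := key y hy
    rw [this]; exact hy
  · intro hx
    exact ⟨x, hx, key x hx⟩

theorem nRow_omega (hG : Good Q) (hQ : GoodQ Q) {p : ℕ} [CharP F p] (hp : p.Prime)
    (hpπ : p ∉ π) (h2π : 2 ∈ π) (h7 : 7 ≤ Fintype.card ι) {Q' : (ι → F) → F} (hQQ : ⇑Q = Q')
    (e : S ≃* Cfsg.POmega F Q') : H165.RV.NRow π S := by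
  subst hQQ
  exact fun H hH => nAt_omega hG hQ hp hpπ h2π h7 e hH

end row

/-! ### the three families -/

section families

variable {S : Type u} [Group S] [Finite S] {π : Set ℕ}

theorem two_ne_zero_of {F : Type} [Field F] {p : ℕ} [CharP F p] (hp : p.Prime) (hpπ : p ∉ π) (h2π : 2 ∈ π) :
    (2 : F) ≠ 0 := by
  intro h
  have h1 : ((2 : ℕ) : F) = 0 := by exact_mod_cast h
  rw [CharP.cast_eq_zero_iff F p, Nat.prime_dvd_prime_iff_eq hp Nat.prime_two] at h1
  exact hpπ (h1 ▸ h2π)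

theorem nRow_oOdd {p : ℕ} (hp : p.Prime) (hpπ : p ∉ π) (h2π : 2 ∈ π) (hG : IsPOmegaOddChar p S) :
    H165.RV.NRow π S := by
  obtain ⟨F, _, _, hchar, m, hm, hoddF, ⟨e⟩⟩ := hG
  have h2 : (2 : F) ≠ 0 := two_ne_zero_of hp hpπ h2π
  have hgq : GoodQ (Cfsg.Agent.LieClassical.OrthForms.oddForm m F) := goodQ_odd (by omega) h2
  have hg : Good (Cfsg.Agent.LieClassical.OrthForms.oddForm m F) := by
    rw [oddForm_eq]; exact good_odd (by omega) h2
  have hc : 7 ≤ Fintype.card (Unit ⊕ Fin m ⊕ Fin m) := by simp; omega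
  exact nRow_omega hg hgq hp hpπ h2π hc (Cfsg.Agent.LieClassical.OrthForms.coe_oddForm m F) e

theorem nRow_oPlus {p : ℕ} (hp : p.Prime) (hpπ : p ∉ π) (h2π : 2 ∈ π) (hG : IsPOmegaPlusChar p S) :
    H165.RV.NRow π S := by
  obtain ⟨F, _, _, hchar, m, hm, ⟨e⟩⟩ := hG
  have h2 : (2 : F) ≠ 0 := two_ne_zero_of hp hpπ h2π
  have hgq : GoodQ (Cfsg.Agent.LieClassical.OrthForms.plusForm m F) := goodQ_plus (by omega)
  have hg : Good (Cfsg.Agent.LieClassical.OrthForms.plusForm m F) := by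
    rw [plusForm_eq]; exact good_plus (by omega)
  have hc : 7 ≤ Fintype.card (Fin m ⊕ Fin m) := by simp; omega
  exact nRow_omega hg hgq hp hpπ h2π hc (Cfsg.Agent.LieClassical.OrthForms.coe_plusForm m F) e

theorem nRow_oMinus {p : ℕ} (hp : p.Prime) (hpπ : p ∉ π) (h2π : 2 ∈ π) (hG : IsPOmegaMinusChar p S) :
    H165.RV.NRow π S := by
  obtain ⟨F, _, _, hchar, m, a, b, hm, hab, ⟨e⟩⟩ := hG
  have h2 : (2 : F) ≠ 0 := two_ne_zero_of hp hpπ h2π
  have hgq : GoodQ (Cfsg.Agent.LieClassical.OrthForms.minusForm (m - 1) F a b) := goodQ_minus (by omega) a b hab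
  have hg : Good (Cfsg.Agent.LieClassical.OrthForms.minusForm (m - 1) F a b) := by
    rw [minusForm_eq]; exact good_minus (by omega) hab
  have hc : 7 ≤ Fintype.card ((Fin (m - 1) ⊕ Fin (m - 1)) ⊕ Fin 2) := by simp; omega
  exact nRow_omega hg hgq hp hpπ h2π hc (Cfsg.Agent.LieClassical.OrthForms.coe_minusForm (m - 1) F a b) e

end families

end rows

end Cfsg.Agent.H485.RV
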